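import Mathlib

/-!
# The fibres of the affinization morphism of a universally closed scheme over a field
-/

set_option autoImplicit false
universe u

open AlgebraicGeometry CategoryTheory Limits TopologicalSpace Opposite Polynomial

namespace Groth.Agent.Lib.Helper24.Affinization

/-- In a Noetherian space the connected components are open. -/
theorem isOpen_connectedComponent_of_noetherianSpace {α : Type*} [TopologicalSpace α]
    [NoetherianSpace α] (x : α) : IsOpen (connectedComponent x) := by
  rw [← isClosed_compl_iff]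
  have hfin : (irreducibleComponents α).Finite := NoetherianSpace.finite_irreducibleComponents
  have h : (connectedComponent x)ᶜ =
      ⋃ Z ∈ {Z ∈ irreducibleComponents α | Disjoint Z (connectedComponent x)}, Z := by
    ext y
    simp only [Set.mem_compl_iff, Set.mem_ofPred_eq, Set.mem_iUnion, exists_prop]
    constructor
    · intro hy
      refine ⟨irreducibleComponent y, ⟨irreducibleComponent_mem_irreducibleComponents y, ?_⟩,
        mem_irreducibleComponent⟩
      rw [Set.disjoint_left]
      intro z hz hzx
      apply hy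
      have hpre : _root_.IsPreconnected (irreducibleComponent y) :=
        isIrreducible_irreducibleComponent.isConnected.isPreconnected
      have hsub := hpre.subset_connectedComponent hz
      rw [← connectedComponent_eq hzx] at hsub
      exact hsub mem_irreducibleComponent
    · rintro ⟨Z, ⟨_, hZ⟩, hyZ⟩ hy
      exact Set.disjoint_left.mp hZ hyZ hy
  rw [h]
  refine Set.Finite.isClosed_biUnion (hfin.subset fun Z hZ => hZ.1) fun Z hZ => ?_
  exact isClosed_of_mem_irreducibleComponents Z hZ.1

variable {X : Scheme.{u}}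

/-- The basic open set of a global function which is integral over a field is clopen. -/
theorem isClopen_basicOpen_of_isIntegral {k : Type u} [Field k] (ρ : k →+* Γ(X, ⊤))
    (s : Γ(X, ⊤)) (hs : ρ.IsIntegralElem s) : IsClopen (X.basicOpen s : Set X) := by
  obtain ⟨p₀, hp₀, hp₀s⟩ := hs
  let p : k[X] := Polynomial.X * p₀
  have hpm : p.Monic := monic_X.mul hp₀
  have hp0 : p ≠ 0 := hpm.ne_zero
  have hps : eval₂ ρ s p = 0 := by
    simp only [p, eval₂_mul, eval₂_X, hp₀s, mul_zero]
  obtain ⟨r, hr, hr'⟩ := exists_eq_pow_rootMultiplicity_mul_and_not_dvd p hp0 (0 : k)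
  set m := p.rootMultiplicity 0 with hm
  have hm0 : 0 < m := by
    rw [hm, rootMultiplicity_pos hp0]
    simp [p]
  simp only [C_0, sub_zero] at hr hr'
  have hcop : IsCoprime ((Polynomial.X : k[X]) ^ m) r :=
    ((irreducible_X (R := k)).coprime_iff_not_dvd.mpr hr').pow_left
  obtain ⟨a, b, hab⟩ := hcop
  let g : Γ(X, ⊤) := eval₂ ρ s r
  have h1 : s ^ m * g = 0 := by
    have : eval₂ ρ s p = s ^ m * g := by
      rw [hr, eval₂_mul, eval₂_pow, eval₂_X]
    rw [← this, hps]
  have h2 : eval₂ ρ s a * s ^ m + eval₂ ρ s b * g = 1 := by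
    have := congrArg (eval₂ ρ s) hab
    simpa [eval₂_add, eval₂_mul, eval₂_pow, eval₂_X] using this
  have hdisj : X.basicOpen s ⊓ X.basicOpen g = ⊥ := by
    rw [← X.basicOpen_pow s hm0, ← Scheme.basicOpen_mul, h1, Scheme.basicOpen_zero]
  have hcov : X.basicOpen s ⊔ X.basicOpen g = ⊤ := by
    rw [eq_top_iff]
    have h3 : (⊤ : X.Opens) = X.basicOpen (eval₂ ρ s a * s ^ m + eval₂ ρ s b * g) := by
      rw [h2, Scheme.basicOpen_one]
    refine le_trans h3.le ?_
    refine le_trans (X.basicOpen_add_le _ _) ?_
    apply sup_le_sup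
    · rw [Scheme.basicOpen_mul, X.basicOpen_pow s hm0]
      exact inf_le_right
    · rw [Scheme.basicOpen_mul]
      exact inf_le_right
  refine ⟨?_, (X.basicOpen s).isOpen⟩
  have : (X.basicOpen s : Set X) = (X.basicOpen g : Set X)ᶜ := by
    ext x
    constructor
    · intro hx hx'
      have : x ∈ X.basicOpen s ⊓ X.basicOpen g := ⟨hx, hx'⟩
      rw [hdisj] at this
      exact this
    · intro hx
      have : x ∈ X.basicOpen s ⊔ X.basicOpen g := by rw [hcov]; trivial
      rcases this with h | h
      · exact h
      · exact absurd h hx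
  rw [this]
  exact (X.basicOpen g).isOpen.isClosed_compl

lemma subsingleton_Γ_of_eq_bot (X : Scheme.{u}) : ∀ W : X.Opens, W = ⊥ → Subsingleton Γ(X, W) := by
  rintro _ rfl
  infer_instance

/-- Every clopen subset of a scheme is the basic open set of a global function. -/
theorem exists_basicOpen_eq_of_isClopen (X : Scheme.{u}) (s : Set X) (hs : IsClopen s) :
    ∃ e : Γ(X, ⊤), (X.basicOpen e : Set X) = s := by
  let U : Bool → X.Opens := fun b => if b = true then ⟨s, hs.2⟩ else ⟨sᶜ, hs.1.isOpen_compl⟩
  let sf : ∀ b : Bool, Γ(X, U b) := fun b => if b = true then 1 else 0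
  have hdisj : ∀ i j : Bool, i ≠ j → U i ⊓ U j = ⊥ := by
    intro i j hij
    ext x
    simp only [Opens.coe_inf, Set.mem_inter_iff, SetLike.mem_coe, Opens.coe_bot,
      Set.mem_empty_iff_false, iff_false, not_and]
    cases i <;> cases j <;> simp_all [U]
  have ic : TopCat.Presheaf.IsCompatible X.presheaf U sf := by
    intro i j
    by_cases hij : i = j
    · subst hij
      rfl
    · haveI := subsingleton_Γ_of_eq_bot X _ (hdisj i j hij)
      exact Subsingleton.elim _ _
  have hcover : (⊤ : X.Opens) ≤ iSup U := by
    intro x _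
    rw [Opens.mem_iSup]
    by_cases hx : x ∈ s
    · exact ⟨true, hx⟩
    · exact ⟨false, hx⟩
  obtain ⟨e, he, -⟩ : ∃ e : Γ(X, ⊤),
      (∀ i, (X.presheaf.map (homOfLE le_top : U i ⟶ ⊤).op).hom e = sf i) ∧
      ∀ y : Γ(X, ⊤), (∀ i, (X.presheaf.map (homOfLE le_top : U i ⟶ ⊤).op).hom y = sf i) → y = e :=
    X.sheaf.existsUnique_gluing' U ⊤ (fun i => homOfLE le_top) hcover sf ic
  refine ⟨e, ?_⟩
  have ht : U true ⊓ X.basicOpen e = U true := by
    have := X.basicOpen_res e (homOfLE le_top : U true ⟶ ⊤).op
    rw [← this]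
    have h1 : (X.presheaf.map (homOfLE le_top : U true ⟶ ⊤).op).hom e = 1 := he true
    rw [h1, Scheme.basicOpen_one]
  have hf : U false ⊓ X.basicOpen e = ⊥ := by
    have := X.basicOpen_res e (homOfLE le_top : U false ⟶ ⊤).op
    rw [← this]
    have h1 : (X.presheaf.map (homOfLE le_top : U false ⟶ ⊤).op).hom e = 0 := he false
    rw [h1, Scheme.basicOpen_zero]
  ext x
  constructor
  · intro hx
    by_contra hxs
    have : x ∈ U false ⊓ X.basicOpen e := ⟨hxs, hx⟩
    rw [hf] at this
    exact this
  · intro hx
    have : x ∈ U true ⊓ X.basicOpen e := by rw [ht]; exact hx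
    exact this.2

/-- For a Noetherian scheme whose global functions are integral over a field, the fibre of the
affinization morphism through a point is the connected component of that point. -/
theorem toSpecΓ_preimage_singleton {k : Type u} [Field k] [NoetherianSpace X]
    (ρ : k →+* Γ(X, ⊤)) (hρ : ρ.IsIntegral) (x₀ : X) :
    X.toSpecΓ ⁻¹' {X.toSpecΓ x₀} = connectedComponent x₀ := by
  have hmem : ∀ (s : Γ(X, ⊤)) (z : X),
      X.toSpecΓ z ∈ PrimeSpectrum.basicOpen s ↔ z ∈ X.basicOpen s := by
    intro s z
    rw [← X.toSpecΓ_preimage_basicOpen s]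
    rfl
  ext z
  simp only [Set.mem_preimage, Set.mem_singleton_iff]
  constructor
  · intro hz
    by_contra hzC
    have hclopen : IsClopen (connectedComponent x₀) :=
      ⟨isClosed_connectedComponent, isOpen_connectedComponent_of_noetherianSpace x₀⟩
    obtain ⟨e, he⟩ := exists_basicOpen_eq_of_isClopen X _ hclopen
    have h1 : x₀ ∈ X.basicOpen e := by
      change x₀ ∈ (X.basicOpen e : Set X)
      rw [he]; exact mem_connectedComponent
    have h2 : z ∉ X.basicOpen e := by
      change z ∉ (X.basicOpen e : Set X)
      rw [he]; exact hzC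
    rw [← hmem, hz] at h2
    exact h2 ((hmem e x₀).mpr h1)
  · intro hz
    apply PrimeSpectrum.ext
    ext s
    have hcl := isClopen_basicOpen_of_isIntegral ρ s (hρ s)
    have hpre : _root_.IsPreconnected (connectedComponent x₀) := isPreconnected_connectedComponent
    have key : z ∈ X.basicOpen s ↔ x₀ ∈ X.basicOpen s := by
      constructor
      · intro h
        exact hpre.subset_isClopen hcl ⟨z, hz, h⟩ mem_connectedComponent
      · intro h
        exact hpre.subset_isClopen hcl ⟨x₀, mem_connectedComponent, h⟩ hz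
    rw [← hmem, ← hmem] at key
    exact not_iff_not.mp key

end Groth.Agent.Lib.Helper24.Affinization
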