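import Mathlib
import Groth.Agent.Lib.Helper24.Affinization.Fibre

/-!
# The kernel of the affinization morphism of a proper group scheme
-/

set_option autoImplicit false
universe u

open AlgebraicGeometry CategoryTheory Limits TopologicalSpace Opposite
open MonoidalCategory CartesianMonoidalCategory MonObj

namespace Groth.Agent.Lib.Helper24.Affinization

theorem main14580 (k : Type u) [Field k]
    (G : Over (Spec (CommRingCat.of k))) [GrpObj G] [IsProper G.hom]
    (t : ↥((𝟙_ (Over (Spec (CommRingCat.of k)))).left)) :
    Set.range ⇑(pullback.fst G.left.toSpecΓ (η[G].left ≫ G.left.toSpecΓ)).base =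
      connectedComponent ((η[G]).left.base t) := by
  haveI : IsLocallyNoetherian G.left := LocallyOfFiniteType.isLocallyNoetherian G.hom
  haveI : CompactSpace ↥G.left := (quasiCompact_iff_compactSpace G.hom).mp inferInstance
  haveI : IsNoetherian G.left := ⟨⟩
  haveI : NoetherianSpace ↥G.left := inferInstance
  let F : CommRingCat.of k ⟶ Γ(G.left, ⊤) := (Scheme.ΓSpecIso (CommRingCat.of k)).inv ≫ G.hom.appTop
  have hF : F.hom.IsIntegral := by
    apply RingHom.isIntegral_respectsIso.2
      (e := (Scheme.ΓSpecIso (CommRingCat.of k)).symm.commRingCatIsoToRingEquiv)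
    exact isIntegral_appTop_of_universallyClosed G.hom
  rw [← toSpecΓ_preimage_singleton F.hom hF]
  rw [Scheme.Pullback.range_fst]
  congr 1
  haveI : Subsingleton ↥((𝟙_ (Over (Spec (CommRingCat.of k)))).left) :=
    inferInstanceAs (Subsingleton (PrimeSpectrum k))
  ext p
  simp only [Set.mem_range, Set.mem_singleton_iff]
  constructor
  · rintro ⟨t', rfl⟩
    rw [Subsingleton.elim t' t]
    rfl
  · rintro rfl
    exact ⟨t, rfl⟩

end Groth.Agent.Lib.Helper24.Affinization
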